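import Groth.Prelude.Def_EtLim
import Groth.Agent.Etcore.GmFun
import Groth.Agent.Etcore.HpullCalc

/-!
# `EtLim.HGmPull` in terms of `hp` and `gmp`
-/

set_option autoImplicit false
universe u
open CategoryTheory CategoryTheory.Limits AlgebraicGeometry Opposite Abelian
open scoped Groth.Agent.Etcore.EtInst
open Groth.Agent.Etcore.EtInst Groth.Agent.Etcore.HpullCalc Groth.Agent.Etcore.GmFun

namespace Groth.Agent.Topos.H571.GmPull

variable {X Y : Scheme.{u}}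

theorem gmp_eq (f : X ⟶ Y) :
    gmp f = (EtCoh.pull f).map (EtLim.GmPush f) ≫ (EtCoh.pullPushAdj f).counit.app (EtCoh.Gm X) :=
  Adjunction.homEquiv_counit _ _ _ _

theorem HGmPull_eq' (f : X ⟶ Y) [PreservesFiniteLimits (EtCoh.pull f)] (n : ℕ)
    (x : HH Y (EtCoh.Gm Y) n) :
    @Eq (HH X (EtCoh.Gm X) n) (EtLim.HGmPull f n x)
      (HHmap ((EtCoh.pullPushAdj f).counit.app (EtCoh.Gm X)) n
        (hp f _ n (HHmap (EtLim.GmPush f) n x))) := rfl

theorem calc_aux (f : X ⟶ Y) [PreservesFiniteLimits (EtCoh.pull f)] (n : ℕ)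
    (x : HH Y (EtCoh.Gm Y) n) :
    HHmap ((EtCoh.pullPushAdj f).counit.app (EtCoh.Gm X)) n
        (hp f _ n (HHmap (EtLim.GmPush f) n x)) = HHmap (gmp f) n (hp f _ n x) := by
  rw [hp_map, ← HHmap_comp, ← gmp_eq]

/-- `HGmPull` is pull back followed by `gmp`. -/
theorem HGmPull_eq (f : X ⟶ Y) [PreservesFiniteLimits (EtCoh.pull f)] (n : ℕ)
    (x : HH Y (EtCoh.Gm Y) n) :
    @Eq (HH X (EtCoh.Gm X) n) (EtLim.HGmPull f n x) (HHmap (gmp f) n (hp f _ n x)) :=
  (HGmPull_eq' f n x).trans (calc_aux f n x)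

end Groth.Agent.Topos.H571.GmPull
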