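import Groth.Agent.Ega43.LimDesc

/-!
# Global functions and units on cofiltered limits of quasi-compact schemes, with base change

Let `D : I ⥤ Scheme` be a cofiltered diagram with affine transition maps, `c` a limit cone,
`g₀ : E ⟶ D.obj i` a morphism with `E` quasi-compact (and quasi-separated), and `P = E ×_{D i} lim D`.

* `gamma_inj` : two functions on `E` which agree on `P` agree on `E ×_{D i} D j` for some `j ⟶ i`;
* `gamma_surj` : a function on `P` comes from `E ×_{D i} D j` for some `j ⟶ i`;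
* `units_surj` : a unit on `P` comes from a unit on `E ×_{D i} D j` for some `j ⟶ i`.
-/

set_option autoImplicit false
universe u

open CategoryTheory CategoryTheory.Limits AlgebraicGeometry Opposite

namespace Groth.Agent.Topos.H571.GammaLim

open Ega43.LimDesc

section NoBaseChange

variable {I : Type u} [SmallCategory I] [IsCofiltered I] {D : I ⥤ Scheme.{u}}
  [∀ {i j} (f : i ⟶ j), IsAffineHom (D.map f)] (c : Cone D) (hc : IsLimit c)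

include hc in
theorem inj₀ {i : I} [CompactSpace (D.obj i)] (s t : Γ(D.obj i, ⊤))
    (h : (c.π.app i).appTop.hom s = (c.π.app i).appTop.hom t) :
    ∃ (j : I) (f : j ⟶ i), (D.map f).appTop.hom s = (D.map f).appTop.hom t :=
  exists_app_map_eq_map_of_isLimit D c hc isCompact_univ s t h

include hc in
theorem surj₀ [∀ i, CompactSpace (D.obj i)] [∀ i, QuasiSeparatedSpace (D.obj i)]
    (s : Γ(c.pt, ⊤)) : ∃ (i : I) (t : Γ(D.obj i, ⊤)), (c.π.app i).appTop.hom t = s := by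
  obtain ⟨i, t, h⟩ := exists_appTop_π_eq_of_isLimit D c hc s
  exact ⟨i, t, h.symm⟩

omit [IsCofiltered I] [∀ {i j : I} (f : i ⟶ j), IsAffineHom (D.map f)] in
theorem map_appTop {i j k : I} (f : j ⟶ i) (g : k ⟶ j) (s : Γ(D.obj i, ⊤)) :
    (D.map (g ≫ f)).appTop.hom s = (D.map g).appTop.hom ((D.map f).appTop.hom s) := by
  rw [D.map_comp, Scheme.Hom.comp_appTop]; rfl

omit [IsCofiltered I] [∀ {i j : I} (f : i ⟶ j), IsAffineHom (D.map f)] in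
theorem π_appTop {i j : I} (f : j ⟶ i) (s : Γ(D.obj i, ⊤)) :
    (c.π.app i).appTop.hom s = (c.π.app j).appTop.hom ((D.map f).appTop.hom s) := by
  rw [← c.w f, Scheme.Hom.comp_appTop]; rfl

include hc in
/-- A unit on the limit comes from a unit on some stage. -/
theorem units_surj₀ [∀ i, CompactSpace (D.obj i)] [∀ i, QuasiSeparatedSpace (D.obj i)]
    (s : (Γ(c.pt, ⊤))ˣ) : ∃ (i : I) (t : (Γ(D.obj i, ⊤))ˣ),
      (c.π.app i).appTop.hom (t : Γ(D.obj i, ⊤)) = (s : Γ(c.pt, ⊤)) := by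
  obtain ⟨i₁, t₁, h₁⟩ := surj₀ c hc (s : Γ(c.pt, ⊤))
  obtain ⟨i₂, t₂, h₂⟩ := surj₀ c hc ((s⁻¹ : (Γ(c.pt, ⊤))ˣ) : Γ(c.pt, ⊤))
  let i₃ := IsCofiltered.min i₁ i₂
  let f₁ : i₃ ⟶ i₁ := IsCofiltered.minToLeft i₁ i₂
  let f₂ : i₃ ⟶ i₂ := IsCofiltered.minToRight i₁ i₂
  obtain ⟨j, f, hf⟩ := inj₀ c hc (i := i₃)
    ((D.map f₁).appTop.hom t₁ * (D.map f₂).appTop.hom t₂) 1 (by
      rw [map_mul, map_one, ← π_appTop, ← π_appTop, h₁, h₂, Units.mul_inv])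
  rw [map_mul, map_one] at hf
  refine ⟨j, ⟨(D.map f).appTop.hom ((D.map f₁).appTop.hom t₁),
    (D.map f).appTop.hom ((D.map f₂).appTop.hom t₂), hf, (mul_comm _ _).trans hf⟩, ?_⟩
  change (c.π.app j).appTop.hom ((D.map f).appTop.hom ((D.map f₁).appTop.hom t₁)) = _
  rw [← π_appTop, ← π_appTop, h₁]

end NoBaseChange

section BaseChange

variable {I : Type u} [SmallCategory I] [IsCofiltered I] {D : I ⥤ Scheme.{u}}
  [∀ {i j} (f : i ⟶ j), IsAffineHom (D.map f)]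
  (c : Cone D) (hc : IsLimit c)

theorem appTop_comp {X Y Z : Scheme.{u}} (f : X ⟶ Y) (g : Y ⟶ Z) (h : X ⟶ Z) (w : f ≫ g = h)
    (s : Γ(Z, ⊤)) : f.appTop.hom (g.appTop.hom s) = h.appTop.hom s := by
  subst w
  rw [Scheme.Hom.comp_appTop]; rfl

include hc in
/-- Injectivity for global functions. -/
theorem gamma_inj {i : I} {E : Scheme.{u}} [CompactSpace E] (g₀ : E ⟶ D.obj i)
    (s t : Γ(E, ⊤)) {P : Scheme.{u}} (a : P ⟶ c.pt) (b : P ⟶ E)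
    (sq : IsPullback b a g₀ (c.π.app i)) (h : b.appTop.hom s = b.appTop.hom t) :
    ∃ (j : I) (f : j ⟶ i), ∀ {P' : Scheme.{u}} (b' : P' ⟶ E) (a' : P' ⟶ D.obj j),
      b' ≫ g₀ = a' ≫ D.map f → b'.appTop.hom s = b'.appTop.hom t := by
  let φ₀ : Over i := Over.mk (𝟙 i)
  have hsq := bcCone_isPullback₀ D c g₀
  obtain ⟨e, he1, he2⟩ : ∃ e : (bcCone D c g₀).pt ⟶ P, e ≫ b = bcPtSnd D c g₀ ∧
      e ≫ a = bcPtFst D c g₀ :=
    ⟨sq.lift (bcPtSnd D c g₀) (bcPtFst D c g₀) hsq.w.symm, sq.lift_fst _ _ _, sq.lift_snd _ _ _⟩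
  obtain ⟨ψ, f, hf⟩ := inj₀ (D := bc D g₀) (bcCone D c g₀) (bcIsLimit D c g₀ hc) (i := φ₀)
    ((bcSnd D g₀ φ₀).appTop.hom s) ((bcSnd D g₀ φ₀).appTop.hom t) (by
      rw [appTop_comp _ _ (bcPtSnd D c g₀) (bcCone_π_snd D c g₀ φ₀),
        appTop_comp _ _ (bcPtSnd D c g₀) (bcCone_π_snd D c g₀ φ₀),
        ← appTop_comp _ _ _ he1, ← appTop_comp _ _ _ he1, h])
  rw [appTop_comp _ _ (bcSnd D g₀ ψ) (bc_map_snd D g₀ f),
    appTop_comp _ _ (bcSnd D g₀ ψ) (bc_map_snd D g₀ f)] at hf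
  refine ⟨ψ.left, ψ.hom, fun b' a' h' => ?_⟩
  have h1 : (bc_isPullback₀ D g₀ ψ).lift a' b' h'.symm ≫ bcSnd D g₀ ψ = b' :=
    IsPullback.lift_snd _ _ _ _
  rw [← appTop_comp _ _ _ h1, ← appTop_comp _ _ _ h1, hf]

omit [IsCofiltered I] [∀ {i j : I} (f : i ⟶ j), IsAffineHom (D.map f)] in
/-- The comparison data used in the surjectivity statements. -/
theorem surj_aux {i : I} {E : Scheme.{u}} (g₀ : E ⟶ D.obj i) {P : Scheme.{u}} (a : P ⟶ c.pt)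
    (b : P ⟶ E) (sq : IsPullback b a g₀ (c.π.app i)) (s : Γ(P, ⊤))
    (e : (bcCone D c g₀).pt ⟶ P) (he1 : e ≫ b = bcPtSnd D c g₀)
    (he2 : e ≫ a = bcPtFst D c g₀) (ψ : Over i) (t : Γ((bc D g₀).obj ψ, ⊤))
    (ht : ((bcCone D c g₀).π.app ψ).appTop.hom t = e.appTop.hom s)
    {P' : Scheme.{u}} (b' : P' ⟶ E) (a' : P' ⟶ D.obj ψ.left) (β : P' ⟶ (bc D g₀).obj ψ)
    (hβ1 : β ≫ bcFst D g₀ ψ = a') (hβ2 : β ≫ bcSnd D g₀ ψ = b')
    {R : Scheme.{u}} (r : R ⟶ P) (r' : R ⟶ P') (hr : r ≫ b = r' ≫ b')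
    (hr' : r ≫ a ≫ c.π.app ψ.left = r' ≫ a') :
    r'.appTop.hom (β.appTop.hom t) = r.appTop.hom s := by
  have hsq := bcCone_isPullback₀ D c g₀
  obtain ⟨m, hm1, hm2⟩ : ∃ m : R ⟶ (bcCone D c g₀).pt, m ≫ bcPtFst D c g₀ = r ≫ a ∧
      m ≫ bcPtSnd D c g₀ = r ≫ b :=
    ⟨hsq.lift (r ≫ a) (r ≫ b) (by rw [Category.assoc, Category.assoc, sq.w]),
      hsq.lift_fst _ _ _, hsq.lift_snd _ _ _⟩
  have hm3 : m ≫ e = r := by
    apply sq.hom_ext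
    · rw [Category.assoc, he1, hm2]
    · rw [Category.assoc, he2, hm1]
  have hm4 : m ≫ (bcCone D c g₀).π.app ψ = r' ≫ β := by
    apply (bc_isPullback₀ D g₀ ψ).hom_ext
    · rw [Category.assoc, bcCone_π_fst, ← Category.assoc, hm1, Category.assoc, Category.assoc _ β, hβ1, hr']
    · rw [Category.assoc, bcCone_π_snd, hm2, Category.assoc _ β, hβ2, hr]
  rw [appTop_comp r' β _ hm4.symm, ← appTop_comp m _ _ rfl, ht, appTop_comp m e r hm3]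

include hc in
/-- Surjectivity for global functions. -/
theorem gamma_surj {i : I} {E : Scheme.{u}} [CompactSpace E] [QuasiSeparatedSpace E]
    (g₀ : E ⟶ D.obj i) {P : Scheme.{u}} (a : P ⟶ c.pt) (b : P ⟶ E)
    (sq : IsPullback b a g₀ (c.π.app i)) (s : Γ(P, ⊤)) :
    ∃ (j : I) (f : j ⟶ i), ∀ {P' : Scheme.{u}} (b' : P' ⟶ E) (a' : P' ⟶ D.obj j),
      b' ≫ g₀ = a' ≫ D.map f → ∃ t : Γ(P', ⊤), ∀ {R : Scheme.{u}} (r : R ⟶ P) (r' : R ⟶ P')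
        (_ : r ≫ b = r' ≫ b') (_ : r ≫ a ≫ c.π.app j = r' ≫ a'),
          r'.appTop.hom t = r.appTop.hom s := by
  have hsq := bcCone_isPullback₀ D c g₀
  obtain ⟨e, he1, he2⟩ : ∃ e : (bcCone D c g₀).pt ⟶ P, e ≫ b = bcPtSnd D c g₀ ∧
      e ≫ a = bcPtFst D c g₀ :=
    ⟨sq.lift (bcPtSnd D c g₀) (bcPtFst D c g₀) hsq.w.symm, sq.lift_fst _ _ _, sq.lift_snd _ _ _⟩
  obtain ⟨ψ, t, ht⟩ := surj₀ (D := bc D g₀) (bcCone D c g₀) (bcIsLimit D c g₀ hc)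
    (e.appTop.hom s)
  refine ⟨ψ.left, ψ.hom, fun {P'} b' a' h' => ?_⟩
  refine ⟨((bc_isPullback₀ D g₀ ψ).lift a' b' h'.symm).appTop.hom t, fun {R} r r' hr hr' => ?_⟩
  exact surj_aux c g₀ a b sq s e he1 he2 ψ t ht b' a' _
    (IsPullback.lift_fst _ _ _ _) (IsPullback.lift_snd _ _ _ _) r r' hr hr'

include hc in
/-- Surjectivity for units. -/
theorem units_surj {i : I} {E : Scheme.{u}} [CompactSpace E] [QuasiSeparatedSpace E]
    (g₀ : E ⟶ D.obj i) {P : Scheme.{u}} (a : P ⟶ c.pt) (b : P ⟶ E)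
    (sq : IsPullback b a g₀ (c.π.app i)) (s : (Γ(P, ⊤))ˣ) :
    ∃ (j : I) (f : j ⟶ i), ∀ {P' : Scheme.{u}} (b' : P' ⟶ E) (a' : P' ⟶ D.obj j),
      b' ≫ g₀ = a' ≫ D.map f → ∃ t : (Γ(P', ⊤))ˣ, ∀ {R : Scheme.{u}} (r : R ⟶ P) (r' : R ⟶ P')
        (_ : r ≫ b = r' ≫ b') (_ : r ≫ a ≫ c.π.app j = r' ≫ a'),
          r'.appTop.hom (t : Γ(P', ⊤)) = r.appTop.hom (s : Γ(P, ⊤)) := by
  have hsq := bcCone_isPullback₀ D c g₀
  obtain ⟨e, he1, he2⟩ : ∃ e : (bcCone D c g₀).pt ⟶ P, e ≫ b = bcPtSnd D c g₀ ∧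
      e ≫ a = bcPtFst D c g₀ :=
    ⟨sq.lift (bcPtSnd D c g₀) (bcPtFst D c g₀) hsq.w.symm, sq.lift_fst _ _ _, sq.lift_snd _ _ _⟩
  obtain ⟨ψ, t, ht⟩ := units_surj₀ (D := bc D g₀) (bcCone D c g₀) (bcIsLimit D c g₀ hc)
    (Units.map e.appTop.hom.toMonoidHom s)
  refine ⟨ψ.left, ψ.hom, fun {P'} b' a' h' => ?_⟩
  refine ⟨Units.map ((bc_isPullback₀ D g₀ ψ).lift a' b' h'.symm).appTop.hom.toMonoidHom t,
    fun {R} r r' hr hr' => ?_⟩
  exact surj_aux c g₀ a b sq (s : Γ(P, ⊤)) e he1 he2 ψ (t : Γ((bc D g₀).obj ψ, ⊤)) ht b' a' _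
    (IsPullback.lift_fst _ _ _ _) (IsPullback.lift_snd _ _ _ _) r r' hr hr'

end BaseChange

end Groth.Agent.Topos.H571.GammaLim
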