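import Groth.Agent.Topos.H571.GammaLim
import Groth.Agent.Etcore.GmFun
import Groth.Agent.Etcore.LimDeg0

/-!
# The degree zero limit statement for the sheaf `G_m`

For a cofiltered limit `S = lim D i` with affine transition maps, `U` étale over `D i`, quasi-compact
and quasi-separated: `G_m(U ×_{D i} S) = colim_j G_m(U ×_{D i} D j)`.
-/

set_option autoImplicit false
set_option backward.isDefEq.respectTransparency.types false
universe u

open CategoryTheory CategoryTheory.Limits AlgebraicGeometry Opposite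

namespace Groth.Agent.Topos.H571.GmDeg0

open Etcore.PullCoh Etcore.GmFun Etcore.LimDeg0 GammaLim CurvesA.MuConst

variable {I : Type u} [SmallCategory I] [IsCofiltered I] {D : I ⥤ Scheme.{u}}
  [∀ {i j} (f : i ⟶ j), IsAffineHom (D.map f)] {S : Scheme.{u}}
  (p : ∀ i, S ⟶ D.obj i) (hp : ∀ {x y : I} (f : x ⟶ y), p x ≫ D.map f = p y)
  (hc : IsLimit (coneOf p hp))

include hc in
/-- Injectivity in degree zero for `G_m`. -/
theorem gm_inj {i : I} (U : (D.obj i).Etale) [CompactSpace U.left]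
    (s : EtCoh.sect (EtCoh.Gm (D.obj i)) U)
    (h : (gmp (p i)).hom.app _ (eta (p i) _ U s) = 0) :
    ∃ (j : I) (f : j ⟶ i), (gmp (D.map f)).hom.app _ (eta (D.map f) _ U s) = 0 := by
  rw [gmp_eta] at h
  have h1 := congrArg (fun t => ((unitOf t : (Γ(((EtCoh.bc (p i)).obj U).left, ⊤))ˣ) :
    Γ(((EtCoh.bc (p i)).obj U).left, ⊤))) h
  obtain ⟨j, f, hf⟩ := gamma_inj (coneOf p hp) hc (E := U.left) U.hom (unitOf s : Γ(U.left, ⊤)) 1 _ _
    (EtpbcB.Big.isPullback_bc (p i) U) (by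
      rw [map_one]
      exact h1)
  refine ⟨j, f, ?_⟩
  rw [gmp_eta]
  apply unitOf_injective
  apply Units.ext
  have h2 := hf (EtpbcB.Big.bcFst (D.map f) U) _ (EtpbcB.Big.bc_condition (D.map f) U)
  rw [map_one] at h2
  exact h2

include hc in
/-- Surjectivity in degree zero for `G_m`. -/
theorem gm_surj {i : I} (U : (D.obj i).Etale) [CompactSpace U.left] [QuasiSeparatedSpace U.left]
    (s : EtCoh.sect (EtCoh.Gm S) ((EtCoh.bc (p i)).obj U)) :
    ∃ (j : I) (f : j ⟶ i)
      (s' : EtCoh.sect (EtCoh.Gm (D.obj j)) ((EtCoh.bc (D.map f)).obj U)),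
      (gmp (p j)).hom.app _ (eta (p j) _ _ s') =
        (EtCoh.Gm S).obj.map (bcComp (p j) (D.map f) (p i) (hp f) U).op s := by
  obtain ⟨j, f, hf⟩ := units_surj (coneOf p hp) hc (E := U.left) U.hom _ _
    (EtpbcB.Big.isPullback_bc (p i) U) (unitOf s)
  obtain ⟨t, ht⟩ := hf (EtpbcB.Big.bcFst (D.map f) U) _ (EtpbcB.Big.bc_condition (D.map f) U)
  refine ⟨j, f, ofUnit (X := D.obj j) (U := (EtCoh.bc (D.map f)).obj U) t, ?_⟩
  rw [gmp_eta]
  apply unitOf_injective
  apply Units.ext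
  refine ht (bcComp (p j) (D.map f) (p i) (hp f) U).left _ ?_ ?_
  · exact bcComp_left_fst (p j) (D.map f) (p i) (hp f) U
  · have h1 : ((bcComp (p j) (D.map f) (p i) (hp f) U).left ≫ ((EtCoh.bc (p i)).obj U).hom) ≫ p j =
        ((EtCoh.bc (p j)).obj ((EtCoh.bc (D.map f)).obj U)).hom ≫ p j :=
      congrArg (· ≫ p j) (EtpbcB.Big.et_w (bcComp (p j) (D.map f) (p i) (hp f) U))
    exact (Category.assoc _ _ _).symm.trans
      (h1.trans (EtpbcB.Big.bc_condition (p j) ((EtCoh.bc (D.map f)).obj U)).symm)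

end Groth.Agent.Topos.H571.GmDeg0
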