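import Groth.Prelude.Def_EtLim
import Groth.Agent.Etcore.GmFun
import Groth.Agent.Etcore.HpullEq

/-!
# `EtLim.HofPush`, `EtLim.HGmPull` in terms of the generalized pullback maps `HC.hpl`
-/

set_option autoImplicit false
universe u

open CategoryTheory CategoryTheory.Limits AlgebraicGeometry Opposite Abelian
open scoped Groth.Agent.Etcore.EtInst

namespace Groth.Agent.Topos.H571.GmGlue

open Etcore.EtInst Etcore.PullCoh Etcore.HpullCalc Etcore.HC Etcore.GmFun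

variable {X Y : Scheme.{u}}

theorem GmPush_eq (f : X ⟶ Y) : EtLim.GmPush f = gmUnit f := rfl

theorem HF_map_eq {F G : EtCoh.Ab X} (φ : F ⟶ G) (n : ℕ) (x : HH X F n) :
    @Eq (HH X G n) (((EtCoh.HF X n).map φ).hom x) (HHmap φ n x) := rfl

theorem HofPush_eq (f : X ⟶ Y) [PreservesFiniteLimits (EtCoh.pull f)] (F : EtCoh.Ab X) (n : ℕ)
    (x : HH Y ((EtCoh.push f).obj F) n) :
    @Eq (HH X F n) (EtLim.HofPush f F n x) (hpl f ((EtCoh.pullPushAdj f).counit.app F) n x) := rfl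

theorem HpullThen_eq (f : X ⟶ Y) [PreservesFiniteLimits (EtCoh.pull f)] (F : EtCoh.Ab Y)
    {M : EtCoh.Ab X} (α : (EtCoh.pull f).obj F ⟶ M) (n : ℕ) (x : HH Y F n) :
    @Eq (HH X M n) (EtLim.HpullThen f F α n x) (hpl f α n x) := rfl

theorem HGmPull_eq (f : X ⟶ Y) [PreservesFiniteLimits (EtCoh.pull f)] (n : ℕ)
    (x : HH Y (EtCoh.Gm Y) n) :
    @Eq (HH X (EtCoh.Gm X) n) (EtLim.HGmPull f n x) (hpl f (gmp f) n x) := by
  have h1 : @Eq (HH X (EtCoh.Gm X) n) (EtLim.HGmPull f n x)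
      (hpl f ((EtCoh.pullPushAdj f).counit.app (EtCoh.Gm X)) n (HHmap (gmUnit f) n x)) := rfl
  refine h1.trans ?_
  rw [hpl_map]
  have h2 : (EtCoh.pull f).map (gmUnit f) ≫ (EtCoh.pullPushAdj f).counit.app (EtCoh.Gm X) = gmp f :=
    (Adjunction.homEquiv_counit _ _ _ _).symm
  rw [h2]

end Groth.Agent.Topos.H571.GmGlue
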